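import Cfsg.Prelude.Def_CaseTheorems
import Cfsg.Agent.Lib.Involution.StronglyEmbedded
import Cfsg.Agent.PF14.Compose

/-!
# One class of maximal 2-local subgroups

In a non-abelian simple group in which the maximal 2-local subgroups are all conjugate, a maximal
2-local subgroup containing the normalizer of a Sylow 2-subgroup is strongly embedded.
-/

set_option autoImplicit false
set_option linter.style.haveILetI false

namespace Cfsg.Agent.OneClass69

open Subgroup
open scoped Pointwise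

variable {G : Type*} [Group G]

theorem map_conj_eq (g : G) (M : Subgroup G) :
    M.map (MulAut.conj g).toMonoidHom = MulAut.conj g • M := rfl

theorem mem_conj_smul {g x : G} {M : Subgroup G} :
    x ∈ MulAut.conj g • M ↔ g⁻¹ * x * g ∈ M := by
  rw [Subgroup.mem_pointwise_smul_iff_inv_smul_mem]
  simp [MulAut.smul_def]

theorem conj_smul_normalizer (g : G) (T : Subgroup G) :
    MulAut.conj g • Subgroup.normalizer (T : Set G) =
      Subgroup.normalizer ((MulAut.conj g • T : Subgroup G) : Set G) :=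
  Subgroup.map_equiv_normalizer_eq T (MulAut.conj g)

variable [Finite G]

/-- Every 2-local subgroup lies in a maximal one. -/
theorem exists_maximal_twoLocal {N : Subgroup G} (hN : Cfsg.IsTwoLocal N) :
    ∃ M : Subgroup G, Cfsg.IsMaximalTwoLocal M ∧ N ≤ M := by
  obtain ⟨M, hNM, hM⟩ := (Set.toFinite {K : Subgroup G | Cfsg.IsTwoLocal K}).exists_le_maximal hN
  exact ⟨M, ⟨hM.prop, fun K hK hMK => (hM.eq_of_le hK hMK).symm⟩, hNM⟩

/-- A non-abelian simple group has even order. -/
theorem even_card_of_simple [IsSimpleGroup G] (hG : ¬ IsMulCommutative G) : Even (Nat.card G) := by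
  rw [← Nat.not_odd_iff_even]
  intro hodd
  exact hG ⟨⟨IsSimpleGroup.comm_iff_isSolvable.2 (PF14.feitThompson G hodd)⟩⟩

/-- In a 2-group, a proper subgroup is properly contained in its normalizer. -/
theorem exists_normalizing {P T : Subgroup G} (hP : IsPGroup 2 P) (hTP : T ≤ P) (hne : T ≠ P) :
    ∃ y ∈ P, y ∉ T ∧ y ∈ Subgroup.normalizer (T : Set G) := by
  haveI : Fact (Nat.Prime 2) := ⟨Nat.prime_two⟩
  haveI : Group.IsNilpotent P := hP.isNilpotent
  have hlt : T.subgroupOf P < ⊤ := lt_top_iff_ne_top.2 fun h => hne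
    (le_antisymm hTP (subgroupOf_eq_top.1 h))
  obtain ⟨y, hy, hyT⟩ := SetLike.exists_of_lt (Group.normalizerCondition_of_isNilpotent _ hlt)
  refine ⟨y, y.2, hyT, ?_⟩
  rw [Subgroup.mem_normalizer_iff] at hy ⊢
  intro x
  constructor
  · intro hx
    exact (hy ⟨x, hTP hx⟩).1 hx
  · intro hx
    have hxP : x ∈ P := by
      have := P.mul_mem (P.mul_mem (P.inv_mem y.2) (hTP hx)) y.2
      simpa [mul_assoc] using this
    exact (hy ⟨x, hxP⟩).2 hx

variable {M : Subgroup G} {S : Sylow 2 G}

/-- `M` is the only conjugate of itself containing `S`. -/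
theorem mem_of_sylow_le_conj (hS : Subgroup.normalizer ((S : Subgroup G) : Set G) ≤ M) {g : G}
    (h : (S : Subgroup G) ≤ MulAut.conj g • M) : g ∈ M := by
  haveI : Fact (Nat.Prime 2) := ⟨Nat.prime_two⟩
  have hSM : (S : Subgroup G) ≤ M := le_normalizer.trans hS
  have hgM : ((g⁻¹ • S : Sylow 2 G) : Subgroup G) ≤ M := by
    rw [Sylow.coe_subgroup_smul, map_inv]
    exact Subgroup.subset_pointwise_smul_iff.1 h
  obtain ⟨m, hm⟩ := MulAction.exists_smul_eq ↥M (S.subtype hSM) ((g⁻¹ • S).subtype hgM)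
  rw [Sylow.smul_subtype] at hm
  have h1 := Sylow.subtype_injective hm
  have h2 : (g * (m : G)) • S = S := by
    rw [mul_smul]
    exact (congrArg (g • ·) h1).trans (smul_inv_smul g S)
  have h3 : g * (m : G) ∈ M := hS (Sylow.smul_eq_iff_mem_normalizer.1 h2)
  simpa using M.mul_mem h3 (M.inv_mem m.2)

/-- A 2-subgroup of `M` is conjugate in `M` to a subgroup of `S`. -/
theorem exists_conj_le (hSM : (S : Subgroup G) ≤ M) {T : Subgroup G} (hT : IsPGroup 2 T)
    (hTM : T ≤ M) : ∃ m ∈ M, MulAut.conj m • T ≤ (S : Subgroup G) := by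
  haveI : Fact (Nat.Prime 2) := ⟨Nat.prime_two⟩
  obtain ⟨P, hP⟩ := (hT.comap_of_injective M.subtype M.subtype_injective :
    IsPGroup 2 (T.subgroupOf M)).exists_le_sylow
  obtain ⟨m, hm⟩ := MulAction.exists_smul_eq ↥M P (S.subtype hSM)
  refine ⟨m, m.2, fun x hx => ?_⟩
  rw [mem_conj_smul] at hx
  have h1 : (⟨_, hTM hx⟩ : M) ∈ (P : Subgroup M) := hP hx
  have h2 : m * ⟨_, hTM hx⟩ * m⁻¹ ∈ ((m • P : Sylow 2 M) : Subgroup M) := by
    rw [Sylow.coe_subgroup_smul, mem_conj_smul]
    simpa [mul_assoc] using h1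
  rw [hm] at h2
  simpa [Sylow.coe_subtype, mem_subgroupOf, mul_assoc] using h2

/-- Normalizers of nontrivial 2-subgroups of `M` lie in `M`. -/
theorem normalizer_le
    (h1 : ∀ L L' : Subgroup G, Cfsg.IsMaximalTwoLocal L → Cfsg.IsMaximalTwoLocal L' →
      ∃ g : G, L' = L.map (MulAut.conj g).toMonoidHom)
    (hM : Cfsg.IsMaximalTwoLocal M) (hS : Subgroup.normalizer ((S : Subgroup G) : Set G) ≤ M)
    (T : Subgroup G) (hT : IsPGroup 2 T) (hT1 : T ≠ ⊥) (hTM : T ≤ M) :
    Subgroup.normalizer (T : Set G) ≤ M := by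
  haveI : Fact (Nat.Prime 2) := ⟨Nat.prime_two⟩
  have hSM : (S : Subgroup G) ≤ M := le_normalizer.trans hS
  induction hk : Nat.card G - Nat.card T using Nat.strong_induction_on generalizing T with
  | _ k ih =>
    subst hk
    obtain ⟨m, hmM, hmT⟩ := exists_conj_le hSM hT hTM
    set U := MulAut.conj m • T with hU
    suffices hNU : Subgroup.normalizer (U : Set G) ≤ M by
      intro x hx
      have hmx : m * x * m⁻¹ ∈ M := hNU (by
        rw [hU, ← conj_smul_normalizer, mem_conj_smul]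
        simpa [mul_assoc] using hx)
      have := M.mul_mem (M.mul_mem (M.inv_mem hmM) hmx) hmM
      simpa [mul_assoc] using this
    have hUc : Nat.card U = Nat.card T :=
      (Nat.card_congr (Subgroup.equivSMul (MulAut.conj m) T).toEquiv).symm
    by_cases hUS : U = (S : Subgroup G)
    · rw [hUS]; exact hS
    obtain ⟨y, hyS, hyU, hyN⟩ := exists_normalizing S.2 hmT hUS
    have hU1 : U ≠ ⊥ := fun h => hT1 (by
      rw [← Subgroup.card_eq_one, ← hUc, h, Subgroup.card_bot])
    have hU2 : IsPGroup 2 U := S.2.to_le hmT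
    obtain ⟨L, hL, hNL⟩ := exists_maximal_twoLocal ⟨U, hU2, hU1, rfl⟩
    obtain ⟨g, rfl⟩ := h1 M L hM hL
    rw [map_conj_eq] at hNL hL
    by_cases hgM : g ∈ M
    · intro x hx
      have := mem_conj_smul.1 (hNL hx)
      simpa [mul_assoc] using M.mul_mem (M.mul_mem hgM this) (M.inv_mem hgM)
    exfalso
    let R : Subgroup G := (S : Subgroup G) ⊓ Subgroup.normalizer (U : Set G)
    have hR : R ∈ {K : Subgroup G | IsPGroup 2 K ∧ K ≤ M ⊓ MulAut.conj g • M} :=
      ⟨S.2.to_le inf_le_left, le_inf (inf_le_left.trans hSM) (inf_le_right.trans hNL)⟩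
    obtain ⟨Q, hRQ, hQ⟩ := (Set.toFinite _).exists_le_maximal hR
    obtain ⟨hQ2, hQle⟩ := hQ.prop
    have hlt : Nat.card U < Nat.card Q := by
      refine lt_of_lt_of_le ?_ (Subgroup.card_le_of_le hRQ)
      by_contra hge
      exact hyU (Subgroup.eq_of_le_of_card_ge (le_inf hmT le_normalizer) (not_lt.1 hge) ▸
        mem_inf.2 ⟨hyS, hyN⟩)
    have hQG : Nat.card Q ≤ Nat.card G := Subgroup.card_le_card_group Q
    have hNQ : Subgroup.normalizer (Q : Set G) ≤ M := ih _ (by omega) Q hQ2
      (fun h => by rw [h, Subgroup.card_bot] at hlt; have := Nat.card_pos (α := U); omega)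
      (hQle.trans inf_le_left) rfl
    -- a Sylow 2-subgroup of the conjugate containing `Q`
    obtain ⟨n, hnM, hnQ⟩ := exists_conj_le (S := g • S)
      (M := MulAut.conj g • M) (by
        rw [Sylow.coe_subgroup_smul]
        exact Subgroup.pointwise_smul_le_pointwise_smul_iff.2 hSM) hQ2 (hQle.trans inf_le_right)
    let P : Sylow 2 G := n⁻¹ • g • S
    have hQP : Q ≤ (P : Subgroup G) := by
      rw [Sylow.coe_subgroup_smul, map_inv]
      exact Subgroup.subset_pointwise_smul_iff.2 hnQ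
    have hPg : (P : Subgroup G) ≤ MulAut.conj g • M := by
      rw [Sylow.coe_subgroup_smul, Sylow.coe_subgroup_smul]
      intro x hx
      have h' : n⁻¹⁻¹⁻¹ ∈ MulAut.conj g • M := by simpa using Subgroup.inv_mem _ hnM
      rw [mem_conj_smul] at hx
      have hSg : MulAut.conj g • (S : Subgroup G) ≤ MulAut.conj g • M :=
        Subgroup.pointwise_smul_le_pointwise_smul_iff.2 hSM
      have := Subgroup.mul_mem _ (Subgroup.mul_mem _ h' (hSg hx)) (Subgroup.inv_mem _ h')
      simpa [mul_assoc] using this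
    by_cases hQP' : Q = (P : Subgroup G)
    · -- then `M` and its conjugate share a Sylow 2-subgroup
      obtain ⟨a, haM, ha⟩ := exists_conj_le hSM hQ2 (hQle.trans inf_le_left)
      have hQS : MulAut.conj a • Q = (S : Subgroup G) :=
        Subgroup.eq_of_le_of_card_ge ha (le_of_eq (by
          rw [← Nat.card_congr (Subgroup.equivSMul (MulAut.conj a) Q).toEquiv, hQP',
            Sylow.card_eq_multiplicity, Sylow.card_eq_multiplicity]))
      refine hgM ?_
      have hag : a * g ∈ M := mem_of_sylow_le_conj hS (by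
        rw [← hQS, map_mul, mul_smul]
        exact Subgroup.pointwise_smul_le_pointwise_smul_iff.2 (hQle.trans inf_le_right))
      simpa [mul_assoc] using M.mul_mem (M.inv_mem haM) hag
    · obtain ⟨z, hzP, hzQ, hzN⟩ := exists_normalizing P.2 hQP hQP'
      have hmem : (P : Subgroup G) ⊓ Subgroup.normalizer (Q : Set G) ∈
          {K : Subgroup G | IsPGroup 2 K ∧ K ≤ M ⊓ MulAut.conj g • M} :=
        ⟨P.2.to_le inf_le_left, le_inf (inf_le_right.trans hNQ) (inf_le_left.trans hPg)⟩
      exact hzQ (hQ.eq_of_le hmem (le_inf hQP le_normalizer) ▸ mem_inf.2 ⟨hzP, hzN⟩)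

/-- The maximal 2-local subgroup containing `N(S)` is strongly embedded. -/
theorem exists_stronglyEmbedded [IsSimpleGroup G] (hG : ¬ IsMulCommutative G)
    (h1 : ∀ L L' : Subgroup G, Cfsg.IsMaximalTwoLocal L → Cfsg.IsMaximalTwoLocal L' →
      ∃ g : G, L' = L.map (MulAut.conj g).toMonoidHom) :
    ∃ M : Subgroup G, Cfsg.IsStronglyEmbedded M := by
  haveI : Fact (Nat.Prime 2) := ⟨Nat.prime_two⟩
  obtain ⟨t, ht⟩ := exists_prime_orderOf_dvd_card' (G := G) 2
    (even_iff_two_dvd.1 (even_card_of_simple hG))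
  obtain ⟨S, htS⟩ := (IsPGroup.of_card (n := 1)
    (by rw [Nat.card_zpowers, ht, pow_one]) : IsPGroup 2 (zpowers t)).exists_le_sylow
  have hS1 : (S : Subgroup G) ≠ ⊥ := fun h => by
    have : t ∈ (⊥ : Subgroup G) := h ▸ htS (mem_zpowers t)
    rw [mem_bot] at this
    rw [this, orderOf_one] at ht
    omega
  obtain ⟨M, hM, hS⟩ := exists_maximal_twoLocal ⟨(S : Subgroup G), S.2, hS1, rfl⟩
  have hSM : (S : Subgroup G) ≤ M := le_normalizer.trans hS
  have htM : t ∈ M := hSM (htS (mem_zpowers t))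
  have hMne : M ≠ ⊤ := by
    rintro rfl
    obtain ⟨T, hT, hT1, hTn⟩ := hM.1
    have hTN : T.Normal := normalizer_eq_top_iff.1 hTn.symm
    rcases hTN.eq_bot_or_eq_top with h | h
    · exact hT1 h
    · have hG2 : IsPGroup 2 G := (h ▸ hT : IsPGroup 2 (⊤ : Subgroup G)).of_equiv topEquiv
      haveI : Group.IsNilpotent G := hG2.isNilpotent
      exact hG ⟨⟨IsSimpleGroup.comm_iff_isSolvable.2 inferInstance⟩⟩
  have key : ∀ g : G, g ∉ M → Odd (Nat.card ↥(M ⊓ M.map (MulAut.conj g).toMonoidHom)) := by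
    intro g hg
    rw [← Nat.not_even_iff_odd]
    intro heven
    obtain ⟨u, hu, hu2⟩ := Involution.exists_involution_of_even heven
    rw [map_conj_eq] at hu
    have hZ : IsPGroup 2 (zpowers u) :=
      IsPGroup.of_card (n := 1) (by rw [Nat.card_zpowers, hu2, pow_one])
    obtain ⟨Q, hZQ, hQ⟩ := (Set.toFinite
      {K : Subgroup G | IsPGroup 2 K ∧ K ≤ M ⊓ MulAut.conj g • M}).exists_le_maximal
      (a := zpowers u) ⟨hZ, zpowers_le.2 hu⟩
    obtain ⟨hQ2, hQle⟩ := hQ.prop
    have hQ1 : Q ≠ ⊥ := fun h => by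
      have : u ∈ (⊥ : Subgroup G) := h ▸ hZQ (mem_zpowers u)
      rw [mem_bot] at this
      rw [this, orderOf_one] at hu2
      omega
    have hNQ := normalizer_le h1 hM hS Q hQ2 hQ1 (hQle.trans inf_le_left)
    -- the same inside the conjugate
    have hQg : MulAut.conj g⁻¹ • Q ≤ M := by
      rw [map_inv, ← Subgroup.subset_pointwise_smul_iff]
      exact hQle.trans inf_le_right
    have hNQg : Subgroup.normalizer (Q : Set G) ≤ MulAut.conj g • M := by
      have := normalizer_le h1 hM hS (MulAut.conj g⁻¹ • Q)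
        (hQ2.of_equiv (Subgroup.equivSMul (MulAut.conj g⁻¹) Q)) (fun h => hQ1 (by
          rw [← Subgroup.card_eq_one, Nat.card_congr (Subgroup.equivSMul (MulAut.conj g⁻¹) Q).toEquiv,
            h, Subgroup.card_bot])) hQg
      rw [← conj_smul_normalizer, map_inv, ← Subgroup.subset_pointwise_smul_iff] at this
      exact this
    obtain ⟨m, hmM, hmQ⟩ := exists_conj_le hSM hQ2 (hQle.trans inf_le_left)
    by_cases hQS : MulAut.conj m • Q = (S : Subgroup G)
    · have hmg : m * g ∈ M := mem_of_sylow_le_conj hS (by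
        rw [← hQS, map_mul, mul_smul]
        exact Subgroup.pointwise_smul_le_pointwise_smul_iff.2 (hQle.trans inf_le_right))
      exact hg (by simpa [mul_assoc] using M.mul_mem (M.inv_mem hmM) hmg)
    · obtain ⟨z, hzS, hzQ, hzN⟩ := exists_normalizing S.2 hmQ hQS
      have hz' : m⁻¹ * z * m ∈ Subgroup.normalizer (Q : Set G) := by
        rw [← conj_smul_normalizer] at hzN
        exact mem_conj_smul.1 hzN
      have hP : MulAut.conj m⁻¹ • ((S : Subgroup G)) ⊓ Subgroup.normalizer (Q : Set G) ∈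
          {K : Subgroup G | IsPGroup 2 K ∧ K ≤ M ⊓ MulAut.conj g • M} :=
        ⟨(S.2.of_equiv (Subgroup.equivSMul (MulAut.conj m⁻¹) (S : Subgroup G))).to_le inf_le_left,
          inf_le_right.trans (le_inf hNQ hNQg)⟩
      have hQle' : Q ≤ MulAut.conj m⁻¹ • (S : Subgroup G) ⊓ Subgroup.normalizer (Q : Set G) := by
        refine le_inf ?_ le_normalizer
        rw [map_inv]
        exact Subgroup.subset_pointwise_smul_iff.2 hmQ
      have hzQ' : m⁻¹ * z * m ∈ Q := hQ.eq_of_le hP hQle' ▸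
        mem_inf.2 ⟨mem_conj_smul.2 (by simpa [mul_assoc] using hzS), hz'⟩
      exact hzQ (mem_conj_smul.2 hzQ')
  exact ⟨M, hMne, Involution.even_card_of_involution htM ht, key⟩

end Cfsg.Agent.OneClass69
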