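import Cfsg.Agent.OneClass69.Basic
import Cfsg.Agent.BenderCons37.Classify

/-!
# Simple groups with one class of maximal 2-local subgroups
-/

set_option autoImplicit false

namespace Cfsg.Agent.OneClass69

open BenderCons37 Suz27 RankOne

universe u

/-- The form of S3245, from Bender's structure theorem. -/
theorem s3245_of (hsp : BenderSplit.{u}) (hs : ShapeStmt.{u, u}) (hu : UniqStmt.{u, u})
    {G : Type u} [Group G] [Finite G] [IsSimpleGroup G] (hG : ¬ IsMulCommutative G)
    (h1 : ∀ M M' : Subgroup G, Cfsg.IsMaximalTwoLocal M → Cfsg.IsMaximalTwoLocal M' →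
      ∃ g : G, M' = M.map (MulAut.conj g).toMonoidHom) : IsR1Type G := by
  obtain ⟨H, hH⟩ := exists_stronglyEmbedded hG h1
  exact isR1Type_of_simple_se hsp hs hu hH

end Cfsg.Agent.OneClass69
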